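import Cfsg.Agent.H621.KGL.Sys

/-!
# Project KGL, T3: a minimal block is primitive (task 1690, helper621)
-/

set_option autoImplicit false
set_option linter.unusedSectionVars false

namespace Cfsg.Agent.H621.KGL

open Cfsg.Agent.H475.KGL

universe u

theorem indep_of_univ {ι : Type*} [Fintype ι] {R M : Type*} [Ring R] [AddCommGroup M] [Module R M]
    {N : ι → Submodule R M}
    (h : ∀ v : ι → M, (∀ i, v i ∈ N i) → ∑ i, v i = 0 → ∀ i, v i = 0) : iSupIndep N := by
  classical
  rw [iSupIndep_iff_finsetSum_eq_zero_imp_eq_zero]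
  intro s v hv hs i hi
  have h1 := h (fun i => if i ∈ s then v i else 0) (by
    intro i
    split_ifs with h
    · exact hv i h
    · exact zero_mem _) (by
    rw [Finset.sum_ite_mem, Finset.univ_inter]
    exact hs) i
  simpa [hi] using h1

section

variable {p : ℕ} {V : Type u} [AddCommGroup V] [Module (ZMod p) V]
  {G : Subgroup (V ≃ₗ[ZMod p] V)} {W : Submodule (ZMod p) V}

theorem block_of_block [Finite V] (hW : Block G W) (U₀ : Submodule (ZMod p) W) (h0 : U₀ ≠ ⊥)
    (hU : sSupIndep (trans (img G W) U₀)) : Block G (U₀.map W.subtype) := by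
  classical
  have hUW : U₀.map W.subtype ≤ W := Submodule.map_subtype_le _ _
  refine ⟨fun h => h0 ?_, ?_⟩
  · rw [eq_bot_iff]
    intro u hu
    have h1 : (W.subtype u : V) ∈ U₀.map W.subtype := ⟨u, hu, rfl⟩
    rw [h, Submodule.mem_bot] at h1
    exact (Submodule.mem_bot _).2 (Subtype.ext h1)
  rw [sSupIndep_iff]
  apply indep_of_univ
  intro v hv hs
  let τ : trans G (U₀.map W.subtype) → trans G W := fun j => gg j • base
  have hτ : ∀ j : trans G (U₀.map W.subtype), j.1 ≤ (τ j).1 := by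
    intro j
    rw [gg_eq j]
    exact Submodule.map_mono hUW
  have h1 : ∑ i, ∑ j with τ j = i, v j = 0 := by
    rw [Finset.sum_fiberwise]
    exact hs
  have h2 := (iSupIndep_iff_finsetSum_eq_zero_imp_eq_zero _).1 ((sSupIndep_iff _).1 hW.2) Finset.univ
    (fun i => ∑ j with τ j = i, v j) (fun i _ => Submodule.sum_mem _ (fun j hj => by
      have hj' : τ j = i := (Finset.mem_filter.1 hj).2
      have := hτ j (hv j)
      rwa [hj'] at this)) h1
  intro j₀
  obtain ⟨i, hi⟩ : ∃ i, τ j₀ = i := ⟨_, rfl⟩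
  have h3 := h2 i (Finset.mem_univ i)
  have hmap : ∀ j : {j // τ j = i}, W.map ((((gg i)⁻¹ * gg j.1 : G) : V ≃ₗ[ZMod p] V) : V →ₗ[ZMod p] V) = W := by
    rintro ⟨j, hj⟩
    have h4 : ((gg i)⁻¹ * gg j : G) • (base : trans G W) = base := by
      rw [mul_smul]
      have h5 : gg j • (base : trans G W) = i := hj
      have h6 : gg i • (base : trans G W) = i := Subtype.ext (gg_eq i).symm
      rw [h5, inv_smul_eq_iff, h6]
    exact congrArg Subtype.val h4
  let a : {j // τ j = i} → (W ≃ₗ[ZMod p] W) := fun j =>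
    (((gg i)⁻¹ * gg j.1 : G) : V ≃ₗ[ZMod p] V).ofSubmodules W W (hmap j)
  have ha : ∀ j, a j ∈ img G W := fun j => ⟨((gg i)⁻¹ * gg j.1 : G), ((gg i)⁻¹ * gg j.1 : G).2, fun _ => rfl⟩
  have hav : ∀ j (w : W), (gg i : V ≃ₗ[ZMod p] V) (a j w) = (gg j.1 : V ≃ₗ[ZMod p] V) w := by
    intro j w
    have e : gg i * ((gg i)⁻¹ * gg j.1) = gg j.1 := by group
    exact congrArg (fun z : G => (z : V ≃ₗ[ZMod p] V) w) e
  let f : {j // τ j = i} → trans (img G W) U₀ := fun j => ⟨U₀.map (a j : W →ₗ[ZMod p] W), a j, ha j, rfl⟩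
  have hrec : ∀ j : {j // τ j = i}, j.1.1 =
      ((U₀.map (a j : W →ₗ[ZMod p] W)).map W.subtype).map ((gg i : V ≃ₗ[ZMod p] V) : V →ₗ[ZMod p] V) := by
    intro j
    rw [gg_eq j.1, ← Submodule.map_comp, ← Submodule.map_comp, ← Submodule.map_comp]
    congr 1
    ext w
    exact (hav j w).symm
  have hf : Function.Injective f := by
    intro j j' h
    have h5 : U₀.map (a j : W →ₗ[ZMod p] W) = U₀.map (a j' : W →ₗ[ZMod p] W) := congrArg Subtype.val h
    apply Subtype.ext
    apply Subtype.ext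
    rw [hrec j, hrec j', h5]
  have hind := (iSupIndep_iff_finsetSum_eq_zero_imp_eq_zero _).1 (((sSupIndep_iff _).1 hU).comp hf) Finset.univ
    (fun j => (⟨((gg i)⁻¹ : G).1 (v j.1), gg_inv_mem i (by
      have := hτ j.1 (hv j.1)
      rwa [j.2] at this)⟩ : W)) (by
      intro j _
      have h6 := hv j.1
      rw [gg_eq j.1] at h6
      obtain ⟨_, ⟨u, hu, rfl⟩, hu2⟩ := h6
      refine ⟨u, hu, Subtype.ext ?_⟩
      show (a j u : V) = ((gg i)⁻¹ : G).1 (v j.1)
      rw [← hu2]
      exact congrArg (fun z : G => (z : V ≃ₗ[ZMod p] V) u) (rfl : (gg i)⁻¹ * gg j.1 = (gg i)⁻¹ * gg j.1)) (by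
      apply Subtype.ext
      rw [AddSubmonoidClass.coe_finsetSum]
      show ∑ j : {j // τ j = i}, ((gg i)⁻¹ : G).1 (v j.1) = 0
      rw [← map_sum, ← Finset.sum_subtype (Finset.univ.filter fun j => τ j = i) (by simp) v, h3, map_zero])
    ⟨j₀, hi⟩ (Finset.mem_univ _)
  have h7 : ((gg i)⁻¹ : G).1 (v j₀) = 0 := congrArg Subtype.val hind
  exact (LinearEquiv.map_eq_zero_iff _).1 h7

theorem block_top [Nontrivial V] : Block G (⊤ : Submodule (ZMod p) V) := by
  refine ⟨top_ne_bot, ?_⟩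
  have h : trans G (⊤ : Submodule (ZMod p) V) = {⊤} := by
    ext Y
    constructor
    · rintro ⟨g, _, rfl⟩
      show Submodule.map (g : V →ₗ[ZMod p] V) ⊤ = ⊤
      rw [Submodule.map_top]
      exact LinearEquiv.range g
    · rintro rfl
      exact ⟨1, G.one_mem, (Submodule.map_id _).symm⟩
  rw [h]
  exact sSupIndep_singleton _

theorem trans_of_inv (H : Subgroup (V ≃ₗ[ZMod p] V)) (U : Submodule (ZMod p) V)
    (hU : ∀ g ∈ H, ∀ u ∈ U, g u ∈ U) : trans H U = {U} := by
  ext Y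
  constructor
  · rintro ⟨g, hg, rfl⟩
    show U.map (g : V →ₗ[ZMod p] V) = U
    apply le_antisymm
    · rintro _ ⟨u, hu, rfl⟩
      exact hU g hg u hu
    · intro u hu
      refine ⟨g⁻¹ u, hU _ (H.inv_mem hg) u hu, ?_⟩
      show (g * g⁻¹) u = u
      rw [mul_inv_cancel]
      rfl
  · rintro rfl
    exact ⟨1, H.one_mem, (Submodule.map_id _).symm⟩

end

variable {p : ℕ} [Fact p.Prime] {V : Type*} [AddCommGroup V] [Module (ZMod p) V] [Finite V] [Nontrivial V]

theorem exists_prim (G : Subgroup (V ≃ₗ[ZMod p] V)) (_hI : Irr G) :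
    ∃ W : Submodule (ZMod p) V, Block G W ∧ Prim (img G W) := by
  classical
  have hfin : Finite (Submodule (ZMod p) V) :=
    Finite.of_injective (fun U : Submodule (ZMod p) V => (U : Set V)) SetLike.coe_injective
  obtain ⟨W, hW, hmin⟩ := (Set.toFinite {W : Submodule (ZMod p) V | Block G W}).exists_minimal ⟨⊤, block_top⟩
  have hW : Block G W := hW
  have key : ∀ U₀ : Submodule (ZMod p) W, U₀ ≠ ⊥ → sSupIndep (trans (img G W) U₀) → U₀ = ⊤ := by
    intro U₀ h0 hU
    have h1 := hmin (show (U₀.map W.subtype) ∈ {W : Submodule (ZMod p) V | Block G W} from block_of_block hW U₀ h0 hU)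
      (Submodule.map_subtype_le _ _)
    rw [eq_top_iff]
    intro w _
    obtain ⟨w', hw', he⟩ := h1 w.2
    have : w' = w := Subtype.ext he
    rwa [← this]
  refine ⟨W, hW, ?_, ?_, ?_⟩
  · exact (Submodule.nontrivial_iff_ne_bot).2 hW.1
  · intro U₀ hU
    by_cases h0 : U₀ = ⊥
    · exact Or.inl h0
    · right
      apply key U₀ h0
      rw [trans_of_inv _ _ hU]
      exact sSupIndep_singleton _
  · intro U₀ hU
    exact key U₀ hU.1 hU.2

end Cfsg.Agent.H621.KGL
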