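import Cfsg.Agent.H621.KGL.Sys

/-!
# Project KGL, T4: real vectors lift (task 1691, helper621)
-/

set_option autoImplicit false

namespace Cfsg.Agent.H621.KGL

open Cfsg.Agent.H475.KGL

variable {p : ℕ} [Fact p.Prime] {V : Type*} [AddCommGroup V] [Module (ZMod p) V] [Finite V] [Nontrivial V]

theorem rv_lift (G : Subgroup (V ≃ₗ[ZMod p] V)) (hI : Irr G) (W : Submodule (ZMod p) V)
    (hW : Block G W) (h : RV (img G W)) : RV G := by
  classical
  obtain ⟨w0, U0, β0, hU0, h1, h2, h3, h4, h5, h6⟩ := h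
  have hb : trans G W := base
  let C : V → trans G W → W := fun x => (E hI hW).symm x
  have hC : ∀ (h : G) (x : V) (i : trans G W),
      C ((h : V ≃ₗ[ZMod p] V) x) (h • i) = aa h i (C x i) := symm_smul hI hW
  have hCE : ∀ f : trans G W → W, C (E hI hW f) = f := fun f => (E hI hW).symm_apply_apply f
  have hCinj : ∀ x y : V, (∀ i, C x i = C y i) → x = y := fun x y hxy =>
    (E hI hW).symm.injective (funext hxy)
  have hCadd : ∀ (x y : V) (i : trans G W), C (x + y) i = C x i + C y i := fun x y i => by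
    show (E hI hW).symm (x + y) i = _
    rw [map_add]
    rfl
  -- the vector, the subspace and the form
  set v : V := E hI hW (fun _ => w0) with hv
  let U : Submodule (ZMod p) V :=
    (Submodule.pi Set.univ (fun _ : trans G W => U0)).comap ((E hI hW).symm : V →ₗ[ZMod p] (trans G W → W))
  have hU : ∀ x, x ∈ U ↔ ∀ i, C x i ∈ U0 := by
    intro x
    show (E hI hW).symm x ∈ Submodule.pi Set.univ (fun _ : trans G W => U0) ↔ _
    rw [Submodule.mem_pi]
    exact ⟨fun h i => h i (Set.mem_univ i), fun h i _ => h i⟩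
  have hsing : ∀ (i : trans G W) (u : W), u ∈ U0 → E hI hW (Pi.single i u) ∈ U := by
    intro i u hu
    rw [hU]
    intro j
    rw [hCE]
    by_cases hj : j = i
    · subst hj
      rw [Pi.single_eq_same]
      exact hu
    · rw [Pi.single_eq_of_ne hj]
      exact U0.zero_mem
  obtain ⟨u0, hu0, hu0'⟩ := (Submodule.ne_bot_iff U0).1 hU0
  -- the stabiliser of `v`
  have hst : ∀ h : G, (h : V ≃ₗ[ZMod p] V) v = v → ∀ i, aa h i w0 = w0 := by
    intro h hh i
    have e1 := hC h v i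
    rw [hh, hv, hCE] at e1
    exact e1.symm
  refine ⟨v, U, fun x y => ∑ i, β0 (C x i) (C y i), ?_, ?_, ?_, ?_, ?_, ?_, ?_⟩
  · rw [Submodule.ne_bot_iff]
    refine ⟨E hI hW (Pi.single hb u0), hsing hb u0 hu0, ?_⟩
    intro h0
    have e1 : (Pi.single hb u0 : trans G W → W) = 0 := (E hI hW).injective (by rw [h0, map_zero])
    apply hu0'
    have e2 := congrFun e1 hb
    rwa [Pi.single_eq_same] at e2
  · intro h hh hhv u hu
    rw [hU] at hu ⊢
    intro j
    have e1 := hC ⟨h, hh⟩ u ((⟨h, hh⟩ : G)⁻¹ • j)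
    rw [smul_inv_smul] at e1
    show C (((⟨h, hh⟩ : G) : V ≃ₗ[ZMod p] V) u) j ∈ U0
    rw [e1]
    exact h1 _ (aa_mem _ _) (hst ⟨h, hh⟩ hhv _) _ (hu _)
  · intro h hh hhv hfix
    have hfix' : ∀ u ∈ U, ((⟨h, hh⟩ : G) : V ≃ₗ[ZMod p] V) u = u := hfix
    have hperm : ∀ i : trans G W, (⟨h, hh⟩ : G) • i = i := by
      intro i
      by_contra hne
      have e1 := hC ⟨h, hh⟩ (E hI hW (Pi.single i u0)) i
      rw [hfix' _ (hsing i u0 hu0), hCE, Pi.single_eq_of_ne hne, Pi.single_eq_same] at e1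
      exact hu0' ((LinearEquiv.map_eq_zero_iff _).1 e1.symm)
    have htriv : ∀ i : trans G W, aa (⟨h, hh⟩ : G) i = 1 := by
      intro i
      refine h2 _ (aa_mem _ _) (hst ⟨h, hh⟩ hhv i) fun u hu => ?_
      have e1 := hC ⟨h, hh⟩ (E hI hW (Pi.single i u)) i
      rw [hfix' _ (hsing i u hu), hCE, hperm i, Pi.single_eq_same] at e1
      exact e1.symm
    have hall : ∀ x, ((⟨h, hh⟩ : G) : V ≃ₗ[ZMod p] V) x = x := by
      intro x
      apply hCinj
      intro i
      have e1 := hC ⟨h, hh⟩ x i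
      rw [hperm i, htriv i] at e1
      exact e1
    exact LinearEquiv.ext hall
  · intro u hu u' hu' x hx
    rw [hU] at hu hu' hx
    rw [← Finset.sum_add_distrib]
    refine Finset.sum_congr rfl fun i _ => ?_
    rw [hCadd]
    exact h3 _ (hu i) _ (hu' i) _ (hx i)
  · intro u hu x hx x' hx'
    rw [hU] at hu hx hx'
    rw [← Finset.sum_add_distrib]
    refine Finset.sum_congr rfl fun i _ => ?_
    rw [hCadd]
    exact h4 _ (hu i) _ (hx i) _ (hx' i)
  · intro h hh hhv u hu x hx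
    rw [hU] at hu hx
    symm
    refine Fintype.sum_equiv (MulAction.toPerm (⟨h, hh⟩ : G)) _ _ fun i => ?_
    show β0 (C u i) (C x i) = β0 (C (((⟨h, hh⟩ : G) : V ≃ₗ[ZMod p] V) u) ((⟨h, hh⟩ : G) • i))
      (C (((⟨h, hh⟩ : G) : V ≃ₗ[ZMod p] V) x) ((⟨h, hh⟩ : G) • i))
    rw [hC, hC]
    exact (h5 _ (aa_mem _ _) (hst ⟨h, hh⟩ hhv i) _ (hu i) _ (hx i)).symm
  · intro u hu hz
    have hu' := (hU u).1 hu
    apply hCinj
    intro i
    have e0 : C 0 i = 0 := by
      show (E hI hW).symm 0 i = 0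
      rw [map_zero]
      rfl
    rw [e0]
    apply h6 _ (hu' i)
    intro y hy
    have e1 : ∑ j, β0 (C u j) (C (E hI hW (Pi.single i y)) j) = 0 := hz _ (hsing i y hy)
    rw [hCE] at e1
    have e2 : ∀ j, j ≠ i → β0 (C u j) ((Pi.single i y : trans G W → W) j) = 0 := by
      intro j hj
      rw [Pi.single_eq_of_ne hj]
      have e3 := h4 _ (hu' j) _ U0.zero_mem _ U0.zero_mem
      rw [add_zero] at e3
      exact (left_eq_add.1 e3)
    rw [Finset.sum_eq_single i (fun j _ hj => e2 j hj) (fun h => absurd (Finset.mem_univ i) h), Pi.single_eq_same] at e1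
    exact e1

end Cfsg.Agent.H621.KGL
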