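import Cfsg.Agent.H621.KGL.Sys
import Cfsg.Agent.H540.ClassNum

/-!
# Project KGL, T5: the imprimitive bound (task 1692, helper621)
-/

set_option autoImplicit false
set_option linter.unusedSectionVars false

namespace Cfsg.Agent.H621.KGL

open Cfsg.Agent.H475.KGL

universe u

/-- the class number is an isomorphism invariant -/
theorem kc_congr {X Y : Type*} [Group X] [Group Y] [Finite X] (e : X ≃* Y) : kc X = kc Y := by
  have : Finite Y := Finite.of_equiv X e.toEquiv
  exact le_antisymm (Cfsg.Agent.H540.ClassNum.card_conjClasses_le_of_surjective e.symm.toMonoidHom e.symm.surjective)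
    (Cfsg.Agent.H540.ClassNum.card_conjClasses_le_of_surjective e.toMonoidHom e.surjective)

section

variable {p : ℕ} {V : Type u} [AddCommGroup V] [Module (ZMod p) V]
  {G : Subgroup (V ≃ₗ[ZMod p] V)} {W : Submodule (ZMod p) V}

theorem conj_map (i : trans G W) (s : MulAction.stabilizer G i) :
    W.map ((((gg i)⁻¹ * (s : G) * gg i : G) : V ≃ₗ[ZMod p] V) : V →ₗ[ZMod p] V) = W := by
  have h1 : W.map ((((gg i)⁻¹ * (s : G) * gg i : G) : V ≃ₗ[ZMod p] V) : V →ₗ[ZMod p] V) =
      (((W.map ((gg i : V ≃ₗ[ZMod p] V) : V →ₗ[ZMod p] V)).map (((s : G) : V ≃ₗ[ZMod p] V) : V →ₗ[ZMod p] V)).map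
        (((gg i)⁻¹ : G).1 : V →ₗ[ZMod p] V)) := by
    rw [← Submodule.map_comp, ← Submodule.map_comp]
    rfl
  have hs : (s : G) • i = i := s.2
  rw [h1, ← gg_eq, ← smul_coe, hs, gg_eq i, ← Submodule.map_comp]
  have h2 : (((gg i)⁻¹ : G).1 : V →ₗ[ZMod p] V) ∘ₗ
      ((gg i : V ≃ₗ[ZMod p] V) : V →ₗ[ZMod p] V) = LinearMap.id := by
    ext x
    exact inv_apply _ x
  rw [h2, Submodule.map_id]

/-- the action of the stabiliser of a translate, transported to `W` -/
noncomputable def rho (i : trans G W) : MulAction.stabilizer G i →* (W ≃ₗ[ZMod p] W) where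
  toFun s := (((gg i)⁻¹ * (s : G) * gg i : G) : V ≃ₗ[ZMod p] V).ofSubmodules W W (conj_map i s)
  map_one' := by
    ext w
    show ((((gg i)⁻¹ * (1 : G) * gg i : G) : V ≃ₗ[ZMod p] V) w : V) = w
    rw [mul_one, inv_mul_cancel]
    rfl
  map_mul' s t := by
    ext w
    show ((((gg i)⁻¹ * ((s : G) * (t : G)) * gg i : G) : V ≃ₗ[ZMod p] V) w : V) =
      (((gg i)⁻¹ * (s : G) * gg i : G) : V ≃ₗ[ZMod p] V) ((((gg i)⁻¹ * (t : G) * gg i : G) : V ≃ₗ[ZMod p] V) w)
    have e : (gg i)⁻¹ * ((s : G) * (t : G)) * gg i = ((gg i)⁻¹ * (s : G) * gg i) * ((gg i)⁻¹ * (t : G) * gg i) := by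
      group
    rw [e]
    rfl

theorem rho_apply (i : trans G W) (s : MulAction.stabilizer G i) (w : W) :
    (rho i s w : V) = (((gg i)⁻¹ * (s : G) * gg i : G) : V ≃ₗ[ZMod p] V) w := rfl

theorem rho_mem (i : trans G W) (s : MulAction.stabilizer G i) : rho i s ∈ img G W :=
  ⟨((gg i)⁻¹ * (s : G) * gg i : G), ((gg i)⁻¹ * (s : G) * gg i : G).2, fun _ => rfl⟩

theorem rho_eq_one_iff (i : trans G W) (s : MulAction.stabilizer G i) :
    rho i s = 1 ↔ ∀ x ∈ i.1, ((s : G) : V ≃ₗ[ZMod p] V) x = x := by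
  constructor
  · intro h x hx
    have h1 := congrArg (fun f : W ≃ₗ[ZMod p] W => ((f ⟨_, gg_inv_mem i hx⟩ : W) : V)) h
    have h2 : (((gg i)⁻¹ * (s : G) * gg i : G) : V ≃ₗ[ZMod p] V) (((gg i)⁻¹ : G).1 x) = ((gg i)⁻¹ : G).1 x := h1
    have h3 : (((gg i)⁻¹ * (s : G) * gg i : G) : V ≃ₗ[ZMod p] V) (((gg i)⁻¹ : G).1 x) =
        ((gg i)⁻¹ : G).1 (((s : G) : V ≃ₗ[ZMod p] V) x) := by
      have e : ((gg i)⁻¹ * (s : G) * gg i) * (gg i)⁻¹ = (gg i)⁻¹ * (s : G) := by group
      exact congrArg (fun z : G => (z : V ≃ₗ[ZMod p] V) x) e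
    rw [h3] at h2
    exact ((gg i)⁻¹ : G).1.injective h2
  · intro h
    ext w
    rw [rho_apply]
    have h1 := h _ (gg_mem i w.2)
    show ((gg i)⁻¹ : G).1 (((s : G) : V ≃ₗ[ZMod p] V) ((gg i : V ≃ₗ[ZMod p] V) w)) = w
    rw [h1]
    exact inv_apply _ _

variable [Finite V]

theorem map_eq_of_maps {a : W ≃ₗ[ZMod p] W} {g : V ≃ₗ[ZMod p] V} (h : ∀ w : W, (a w : V) = g w) :
    W.map (g : V →ₗ[ZMod p] V) = W := by
  apply le_antisymm
  · rintro _ ⟨w, hw, rfl⟩
    have := h ⟨w, hw⟩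
    show g w ∈ W
    rw [← this]
    exact (a ⟨w, hw⟩).2
  · intro w hw
    refine ⟨(a.symm ⟨w, hw⟩ : W), (a.symm ⟨w, hw⟩).2, ?_⟩
    have := h (a.symm ⟨w, hw⟩)
    rw [LinearEquiv.apply_symm_apply] at this
    exact this.symm

theorem rho_surj (i : trans G W) {a : W ≃ₗ[ZMod p] W} (ha : a ∈ img G W) : ∃ s, rho i s = a := by
  obtain ⟨g, hg, h⟩ := ha
  have hst : (gg i * (⟨g, hg⟩ : G) * (gg i)⁻¹) • i = i := by
    apply Subtype.ext
    rw [smul_coe]
    have h1 : i.1.map (((gg i * (⟨g, hg⟩ : G) * (gg i)⁻¹ : G) : V ≃ₗ[ZMod p] V) : V →ₗ[ZMod p] V) =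
        ((i.1.map (((gg i)⁻¹ : G).1 : V →ₗ[ZMod p] V)).map (g : V →ₗ[ZMod p] V)).map
          ((gg i : V ≃ₗ[ZMod p] V) : V →ₗ[ZMod p] V) := by
      rw [← Submodule.map_comp, ← Submodule.map_comp]
      rfl
    have h2 : i.1.map (((gg i)⁻¹ : G).1 : V →ₗ[ZMod p] V) = W := by
      rw [gg_eq i, ← Submodule.map_comp]
      have h2 : (((gg i)⁻¹ : G).1 : V →ₗ[ZMod p] V) ∘ₗ
          ((gg i : V ≃ₗ[ZMod p] V) : V →ₗ[ZMod p] V) = LinearMap.id := by
        ext x
        exact inv_apply _ x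
      rw [h2, Submodule.map_id]
    rw [h1, h2, map_eq_of_maps h, ← gg_eq]
  refine ⟨⟨_, hst⟩, ?_⟩
  ext w
  rw [rho_apply, h]
  have e : (gg i)⁻¹ * (gg i * (⟨g, hg⟩ : G) * (gg i)⁻¹) * gg i = ⟨g, hg⟩ := by group
  exact congrArg (fun z : G => (z : V ≃ₗ[ZMod p] V) w) e

/-- **the induction over the translates** -/
theorem claim (hSm : Cfsg.Agent.H475.KGL.Small (img G W)) {B : Subgroup G} (hB : B.Normal) (hBi : ∀ b ∈ B, ∀ i : trans G W, b • i = i)
    (s : Finset (trans G W)) : ∀ D : Subgroup G, D ≤ B → (∀ b ∈ B, ∀ d ∈ D, b * d * b⁻¹ ∈ D) →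
      (∀ d ∈ D, (∀ i ∈ s, ∀ x ∈ i.1, (d : V ≃ₗ[ZMod p] V) x = x) → d = 1) →
        2 ^ s.card * kc D ≤ Nat.card W ^ s.card := by
  classical
  have hfinE : Finite (V ≃ₗ[ZMod p] V) := Finite.of_injective (fun f => (f : V → V)) DFunLike.coe_injective
  have hfinG : Finite G := inferInstance
  induction s using Finset.induction_on with
  | empty =>
    intro D _ _ hD
    have h1 : ∀ d : D, d = 1 := fun d => Subtype.ext (hD d d.2 (fun i hi => absurd hi (Finset.notMem_empty i)))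
    have : Subsingleton D := ⟨fun a b => by rw [h1 a, h1 b]⟩
    have h2 : kc D = 1 := by
      rw [kc, Nat.card_eq_one_iff_unique]
      exact ⟨⟨fun a b => by
        obtain ⟨a, rfl⟩ := ConjClasses.exists_rep a
        obtain ⟨b, rfl⟩ := ConjClasses.exists_rep b
        exact congrArg _ (Subsingleton.elim _ _)⟩, ⟨ConjClasses.mk 1⟩⟩
    rw [h2]
    simp
  | insert i s his ih =>
    intro D hDB hDn hD
    have hDst : D ≤ MulAction.stabilizer G i := fun d hd => hBi d (hDB hd) i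
    let f : D →* (W ≃ₗ[ZMod p] W) := (rho i).comp (Subgroup.inclusion hDst)
    let D' : Subgroup G := f.ker.map D.subtype
    have hmem : ∀ d : G, d ∈ D' ↔ d ∈ D ∧ ∀ x ∈ i.1, (d : V ≃ₗ[ZMod p] V) x = x := by
      intro d
      constructor
      · rintro ⟨d, hd, rfl⟩
        exact ⟨d.2, (rho_eq_one_iff i _).1 hd⟩
      · rintro ⟨hd, h⟩
        exact ⟨⟨d, hd⟩, (rho_eq_one_iff i _).2 h, rfl⟩
    have h1 := ih D' (fun d hd => hDB ((hmem d).1 hd).1) (by
      intro b hb d hd
      rw [hmem] at hd ⊢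
      refine ⟨hDn b hb d hd.1, fun x hx => ?_⟩
      have hbi : b⁻¹ • i = i := hBi _ (B.inv_mem hb) i
      have h2 : ((b⁻¹ : G) : V ≃ₗ[ZMod p] V) x ∈ i.1 := by
        have := mem_smul b⁻¹ i hx
        rwa [hbi] at this
      show (b : V ≃ₗ[ZMod p] V) ((d : V ≃ₗ[ZMod p] V) (((b⁻¹ : G) : V ≃ₗ[ZMod p] V) x)) = x
      rw [hd.2 _ h2]
      exact apply_inv b x) (by
      intro d hd h
      rw [hmem] at hd
      apply hD d hd.1
      intro j hj
      rcases Finset.mem_insert.1 hj with rfl | hj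
      · exact hd.2
      · exact h j hj)
    have h2 : kc f.ker = kc D' := kc_congr (f.ker.equivMapOfInjective D.subtype D.subtype_injective)
    have h3 : kc D ≤ kc f.ker * kc f.range := Cfsg.Agent.H540.ClassNum.le_ker_mul_range f
    -- the image is subnormal
    have h4 : SN f.range (img G W) := by
      have hle : f.range ≤ img G W := by
        rintro _ ⟨d, rfl⟩
        exact rho_mem i _
      refine ⟨hle, ?_⟩
      let St := MulAction.stabilizer G i
      let R : St →* img G W := (rho i).codRestrict (img G W) (rho_mem i)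
      have hR : Function.Surjective R := by
        rintro ⟨a, ha⟩
        obtain ⟨t, ht⟩ := rho_surj i ha
        exact ⟨t, Subtype.ext ht⟩
      have hsub : (D.subgroupOf St).IsSubnormal := by
        have hBs : (B.subgroupOf St).Normal := inferInstance
        refine Subgroup.IsSubnormal.step _ (B.subgroupOf St) ?_ hBs.isSubnormal ?_
        · intro d hd
          exact hDB hd
        · refine ⟨?_⟩
          intro d hd b
          exact hDn _ b.2 _ hd
      have heq : f.range.subgroupOf (img G W) = (D.subgroupOf St).map R := by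
        ext a
        constructor
        · rintro ⟨d, hd⟩
          exact ⟨Subgroup.inclusion hDst d, d.2, Subtype.ext hd⟩
        · rintro ⟨t, ht, rfl⟩
          exact ⟨⟨t, ht⟩, rfl⟩
      rw [heq]
      exact hsub.map hR
    have h5 := hSm _ h4
    rw [Finset.card_insert_of_notMem his, pow_succ, pow_succ]
    calc 2 ^ s.card * 2 * kc D ≤ 2 ^ s.card * 2 * (kc D' * kc f.range) := by
          rw [← h2]
          exact Nat.mul_le_mul_left _ h3
      _ = (2 ^ s.card * kc D') * (2 * kc f.range) := by ring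
      _ ≤ Nat.card W ^ s.card * Nat.card W := Nat.mul_le_mul h1 h5

end

variable {p : ℕ} [Fact p.Prime] {V : Type*} [AddCommGroup V] [Module (ZMod p) V] [Finite V] [Nontrivial V]

theorem small_bd (P : Perm2) (G : Subgroup (V ≃ₗ[ZMod p] V)) (_hG : ¬ p ∣ Nat.card G) (hI : Irr G)
    (W : Submodule (ZMod p) V) (hW : Block G W) (h : Cfsg.Agent.H475.KGL.Small (img G W)) : 2 * kc G ≤ Nat.card V := by
  classical
  have hfinE : Finite (V ≃ₗ[ZMod p] V) := Finite.of_injective (fun f => (f : V → V)) DFunLike.coe_injective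
  have hfinG : Finite G := inferInstance
  let π : G →* Equiv.Perm (trans G W) := MulAction.toPermHom G (trans G W)
  have hker : ∀ b ∈ π.ker, ∀ i : trans G W, b • i = i := by
    intro b hb i
    exact congrArg (fun σ : Equiv.Perm (trans G W) => σ i) hb
  have h1 := claim h (B := π.ker) inferInstance hker Finset.univ π.ker le_rfl
    (fun b hb d hd => (inferInstance : π.ker.Normal).conj_mem d hd b) (by
      intro d _ hd
      have hall : ∀ x, (d : V ≃ₗ[ZMod p] V) x = x := by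
        intro x
        obtain ⟨w, rfl⟩ := (E hI hW).surjective x
        rw [E_apply, map_sum]
        exact Finset.sum_congr rfl fun i _ => hd i (Finset.mem_univ i) _ (gg_mem i (w i).2)
      exact Subtype.ext (LinearEquiv.ext hall))
  have h2 : kc G ≤ kc π.ker * kc π.range := Cfsg.Agent.H540.ClassNum.le_ker_mul_range π
  set m := Nat.card (trans G W) with hm
  have hm1 : 0 < m := by
    have : Nonempty (trans G W) := ⟨base⟩
    exact Nat.card_pos
  have h3 : kc π.range ≤ 2 ^ (m - 1) := by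
    let e : Equiv.Perm (trans G W) ≃* Equiv.Perm (Fin m) := (Finite.equivFin (trans G W)).permCongrHom
    rw [kc_congr (π.range.equivMapOfInjective e.toMonoidHom e.injective)]
    exact P m _
  rw [Finset.card_univ, ← Nat.card_eq_fintype_card, ← card_eq hI hW, ← hm] at h1
  calc 2 * kc G ≤ 2 * (kc π.ker * 2 ^ (m - 1)) := Nat.mul_le_mul_left _ (h2.trans (Nat.mul_le_mul_left _ h3))
    _ = 2 ^ (m - 1 + 1) * kc π.ker := by rw [pow_succ]; ring
    _ = 2 ^ m * kc π.ker := by rw [Nat.sub_add_cancel hm1]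
    _ ≤ Nat.card V := h1

end Cfsg.Agent.H621.KGL
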