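import Cfsg.Agent.H475.KGL.Rows

/-!
# Project KGL: the translates of a block (helper621)

`G` irreducible, `W` a block: `E : (trans G W → W) ≃ₗ V`, `E w = Σ g i (w i)`.
-/

set_option autoImplicit false
set_option linter.unusedSectionVars false

namespace Cfsg.Agent.H621.KGL

open Cfsg.Agent.H475.KGL

universe u

variable {p : ℕ} {V : Type u} [AddCommGroup V] [Module (ZMod p) V]
  {G : Subgroup (V ≃ₗ[ZMod p] V)} {W : Submodule (ZMod p) V}

/-- translation by an element of `G` -/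
def tr (h : G) (i : trans G W) : trans G W :=
  ⟨i.1.map ((h : V ≃ₗ[ZMod p] V) : V →ₗ[ZMod p] V), by
    obtain ⟨g, hg, e⟩ := i.2
    exact ⟨h * g, G.mul_mem h.2 hg, by rw [e, ← Submodule.map_comp]; rfl⟩⟩

instance act : MulAction G (trans G W) where
  smul := tr
  one_smul i := Subtype.ext (by
    show i.1.map (((1 : G) : V ≃ₗ[ZMod p] V) : V →ₗ[ZMod p] V) = i.1
    exact Submodule.map_id _)
  mul_smul h k i := Subtype.ext (by
    show i.1.map (((h * k : G) : V ≃ₗ[ZMod p] V) : V →ₗ[ZMod p] V) =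
      (i.1.map ((k : V ≃ₗ[ZMod p] V) : V →ₗ[ZMod p] V)).map ((h : V ≃ₗ[ZMod p] V) : V →ₗ[ZMod p] V)
    rw [← Submodule.map_comp]
    rfl)

theorem smul_coe (h : G) (i : trans G W) :
    (h • i).1 = i.1.map ((h : V ≃ₗ[ZMod p] V) : V →ₗ[ZMod p] V) := rfl

theorem mem_smul (h : G) (i : trans G W) {x : V} (hx : x ∈ i.1) : (h : V ≃ₗ[ZMod p] V) x ∈ (h • i).1 := by
  rw [smul_coe]
  exact ⟨x, hx, rfl⟩

/-- a chosen element carrying `W` to the translate `i` -/
noncomputable def gg (i : trans G W) : G := ⟨Classical.choose i.2, (Classical.choose_spec i.2).1⟩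

theorem gg_eq (i : trans G W) : i.1 = W.map ((gg i : V ≃ₗ[ZMod p] V) : V →ₗ[ZMod p] V) :=
  (Classical.choose_spec i.2).2

theorem gg_mem (i : trans G W) {w : V} (hw : w ∈ W) : (gg i : V ≃ₗ[ZMod p] V) w ∈ i.1 := by
  rw [gg_eq i]
  exact ⟨w, hw, rfl⟩

theorem gg_inv_mem (i : trans G W) {x : V} (hx : x ∈ i.1) : ((gg i)⁻¹ : G).1 x ∈ W := by
  rw [gg_eq i] at hx
  obtain ⟨w, hw, rfl⟩ := hx
  have : ((gg i)⁻¹ : G).1 (((gg i : V ≃ₗ[ZMod p] V) : V →ₗ[ZMod p] V) w) = w := by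
    show ((gg i)⁻¹ * gg i : G).1 w = w
    rw [inv_mul_cancel]
    rfl
  rwa [this]

theorem inv_apply (h : G) (x : V) : ((h⁻¹ : G) : V ≃ₗ[ZMod p] V) ((h : V ≃ₗ[ZMod p] V) x) = x := by
  show ((h⁻¹ * h : G) : V ≃ₗ[ZMod p] V) x = x
  rw [inv_mul_cancel]
  rfl

theorem apply_inv (h : G) (x : V) : (h : V ≃ₗ[ZMod p] V) (((h⁻¹ : G) : V ≃ₗ[ZMod p] V) x) = x := by
  show ((h * h⁻¹ : G) : V ≃ₗ[ZMod p] V) x = x
  rw [mul_inv_cancel]
  rfl

/-- the base translate -/
def base : trans G W := ⟨W, 1, G.one_mem, (Submodule.map_id _).symm⟩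

variable [Finite V]

instance finTrans : Finite (trans G W) := by
  have : Finite (Submodule (ZMod p) V) := by
    exact Finite.of_injective (fun U : Submodule (ZMod p) V => (U : Set V)) SetLike.coe_injective
  infer_instance

noncomputable instance fintypeTrans : Fintype (trans G W) := Fintype.ofFinite _

/-- the sum map -/
noncomputable def Ps (G : Subgroup (V ≃ₗ[ZMod p] V)) (W : Submodule (ZMod p) V) :
    (trans G W → W) →ₗ[ZMod p] V :=
  ∑ i, (((gg i : V ≃ₗ[ZMod p] V) : V →ₗ[ZMod p] V).comp W.subtype).comp (LinearMap.proj i)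

theorem Ps_apply (w : trans G W → W) : Ps G W w = ∑ i, (gg i : V ≃ₗ[ZMod p] V) (w i) := by
  unfold Ps
  rw [LinearMap.sum_apply]
  rfl

theorem Ps_inj (hW : Block G W) : Function.Injective (Ps G W) := by
  rw [← LinearMap.ker_eq_bot, LinearMap.ker_eq_bot']
  intro w hw
  rw [Ps_apply] at hw
  have h1 := (iSupIndep_iff_finsetSum_eq_zero_imp_eq_zero _).1 ((sSupIndep_iff _).1 hW.2) Finset.univ
    (fun i => (gg i : V ≃ₗ[ZMod p] V) (w i)) (fun i _ => gg_mem i (w i).2) hw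
  ext i
  have h2 := h1 i (Finset.mem_univ i)
  have h3 : ((w i : W) : V) = 0 := (LinearEquiv.map_eq_zero_iff _).1 h2
  rw [h3]
  rfl

theorem le_range (i : trans G W) : i.1 ≤ LinearMap.range (Ps G W) := by
  classical
  intro x hx
  rw [gg_eq i] at hx
  obtain ⟨w, hw, rfl⟩ := hx
  refine ⟨Pi.single i ⟨w, hw⟩, ?_⟩
  rw [Ps_apply, Finset.sum_eq_single i]
  · rw [Pi.single_eq_same]
    rfl
  · intro j _ hj
    rw [Pi.single_eq_of_ne hj]
    exact map_zero _
  · intro h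
    exact absurd (Finset.mem_univ i) h

theorem Ps_surj (hI : Irr G) (hW : Block G W) : Function.Surjective (Ps G W) := by
  rw [← LinearMap.range_eq_top]
  rcases hI (LinearMap.range (Ps G W)) (by
    rintro g hg _ ⟨w, rfl⟩
    rw [Ps_apply, map_sum]
    apply Submodule.sum_mem
    intro i _
    exact le_range _ (mem_smul ⟨g, hg⟩ i (gg_mem i (w i).2))) with h | h
  · exfalso
    apply hW.1
    rw [eq_bot_iff, ← h]
    exact le_range (base : trans G W)
  · exact h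

/-- **`V` is the direct sum of the translates of `W`.** -/
noncomputable def E (hI : Irr G) (hW : Block G W) : (trans G W → W) ≃ₗ[ZMod p] V :=
  LinearEquiv.ofBijective (Ps G W) ⟨Ps_inj hW, Ps_surj hI hW⟩

theorem E_apply (hI : Irr G) (hW : Block G W) (w : trans G W → W) :
    E hI hW w = ∑ i, (gg i : V ≃ₗ[ZMod p] V) (w i) := Ps_apply w

theorem card_eq (hI : Irr G) (hW : Block G W) : Nat.card V = Nat.card W ^ Nat.card (trans G W) := by
  rw [← Nat.card_congr (E hI hW).toEquiv, Nat.card_fun]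

/-! ### the components -/

/-- the element `g_{h i}⁻¹ h g_i` of the stabiliser of `W` -/
noncomputable def ff (h : G) (i : trans G W) : G := (gg (h • i))⁻¹ * h * gg i

theorem ff_map (h : G) (i : trans G W) :
    W.map ((ff h i : V ≃ₗ[ZMod p] V) : V →ₗ[ZMod p] V) = W := by
  have h1 : W.map ((ff h i : V ≃ₗ[ZMod p] V) : V →ₗ[ZMod p] V) =
      (((W.map ((gg i : V ≃ₗ[ZMod p] V) : V →ₗ[ZMod p] V)).map ((h : V ≃ₗ[ZMod p] V) : V →ₗ[ZMod p] V)).map
        (((gg (h • i))⁻¹ : G).1 : V →ₗ[ZMod p] V)) := by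
    rw [← Submodule.map_comp, ← Submodule.map_comp]
    rfl
  rw [h1, ← gg_eq, ← smul_coe, gg_eq (h • i), ← Submodule.map_comp]
  have h2 : (((gg (h • i))⁻¹ : G).1 : V →ₗ[ZMod p] V) ∘ₗ
      ((gg (h • i) : V ≃ₗ[ZMod p] V) : V →ₗ[ZMod p] V) = LinearMap.id := by
    ext x
    exact inv_apply _ x
  rw [h2, Submodule.map_id]

/-- the induced map of `W` -/
noncomputable def aa (h : G) (i : trans G W) : W ≃ₗ[ZMod p] W :=
  (ff h i : V ≃ₗ[ZMod p] V).ofSubmodules W W (ff_map h i)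

theorem aa_apply (h : G) (i : trans G W) (w : W) : (aa h i w : V) = (ff h i : V ≃ₗ[ZMod p] V) w := rfl

theorem aa_mem (h : G) (i : trans G W) : aa h i ∈ img G W := ⟨ff h i, (ff h i).2, fun _ => rfl⟩

theorem gg_aa (h : G) (i : trans G W) (w : W) :
    (gg (h • i) : V ≃ₗ[ZMod p] V) (aa h i w) = (h : V ≃ₗ[ZMod p] V) ((gg i : V ≃ₗ[ZMod p] V) w) := by
  rw [aa_apply]
  have e : gg (h • i) * ((gg (h • i))⁻¹ * h * gg i) = h * gg i := by
    rw [mul_assoc, mul_inv_cancel_left]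
  exact congrArg (fun z : G => (z : V ≃ₗ[ZMod p] V) w) e

/-- **the action on the components** -/
theorem symm_smul (hI : Irr G) (hW : Block G W) (h : G) (x : V) (i : trans G W) :
    (E hI hW).symm ((h : V ≃ₗ[ZMod p] V) x) (h • i) = aa h i ((E hI hW).symm x i) := by
  classical
  obtain ⟨w, rfl⟩ := (E hI hW).surjective x
  rw [LinearEquiv.symm_apply_apply]
  have h1 : (h : V ≃ₗ[ZMod p] V) (E hI hW w) =
      E hI hW (fun j => aa h (h⁻¹ • j) (w (h⁻¹ • j)) : trans G W → W) := by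
    rw [E_apply, E_apply, map_sum]
    refine Fintype.sum_equiv (MulAction.toPerm h) _ _ fun i => ?_
    show (h : V ≃ₗ[ZMod p] V) ((gg i : V ≃ₗ[ZMod p] V) (w i)) =
      (gg (h • i) : V ≃ₗ[ZMod p] V) (aa h (h⁻¹ • h • i) (w (h⁻¹ • h • i)))
    have h2 : ∀ j, j = i → (gg (h • i) : V ≃ₗ[ZMod p] V) (aa h j (w j)) =
        (h : V ≃ₗ[ZMod p] V) ((gg i : V ≃ₗ[ZMod p] V) (w i)) := by
      rintro j rfl
      exact gg_aa h j (w j)
    exact (h2 _ (inv_smul_smul h i)).symm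
  rw [h1, LinearEquiv.symm_apply_apply]
  have h2 : ∀ j, j = i → aa h j (w j) = aa h i (w i) := by
    rintro j rfl
    rfl
  exact h2 _ (inv_smul_smul h i)

end Cfsg.Agent.H621.KGL
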